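import Cfsg.Agent.J4Rep94.C6.Data

/-!
# Certificate data
-/

set_option autoImplicit false
set_option maxRecDepth 100000

namespace Cfsg.Agent.J4Rep94.C6

open Cfsg.Agent.CosetEnum

def fv0 : ℕ := 0x100003000020005e0005c0005a00058000560005400052000500004e0004c0004a00048000460004400042000400003e0003c0003a00038000360003400032000300002e0002c0002a00028000260002400022000200001e0001c0001a00018000160001400012000100000e0000c0000a0000800006000040002e0000200000
theorem fok0 : sys.checkFacts 48 1 fv0 = true := by decide +kernel


end Cfsg.Agent.J4Rep94.C6
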